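import Mathlib.AlgebraicGeometry.RelativeGluing
import Mathlib.AlgebraicGeometry.Cover.Directed
import Mathlib.AlgebraicGeometry.Morphisms.Affine
import Mathlib.CategoryTheory.Monoidal.Cartesian.Over

/-!
# Representability of a functor on `S`-schemes is local on `S`

A functor on `S`-schemes satisfying Zariski descent which is represented over each affine open of `S` (tested on affine
schemes only) is representable, by an object restricting to the given local ones.
-/

set_option autoImplicit false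
set_option linter.style.haveILetI false
set_option backward.isDefEq.respectTransparency false
set_option backward.isDefEq.respectTransparency.types false
set_option backward.defeqAttrib.useBackward true

universe u

open CategoryTheory CategoryTheory.Limits AlgebraicGeometry Opposite

namespace Groth.Agent.RepLocal

variable {S : Scheme.{u}}

/-- An open subscheme of an `S`-scheme. -/
noncomputable abbrev opOver (T : Over S) (U : T.left.Opens) : Over S := Over.mk (U.ι ≫ T.hom)

/-- Its inclusion. -/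
noncomputable abbrev opIncl (T : Over S) (U : T.left.Opens) : opOver T U ⟶ T := Over.homMk U.ι

/-- The inclusion of a smaller open. -/
noncomputable abbrev opMap (T : Over S) {U V : T.left.Opens} (h : U ≤ V) : opOver T U ⟶ opOver T V :=
  Over.homMk (T.left.homOfLE h) (by simp)

lemma opMap_incl (T : Over S) {U V : T.left.Opens} (h : U ≤ V) : opMap T h ≫ opIncl T V = opIncl T U :=
  Over.OverMorphism.ext (T.left.homOfLE_ι h)

/-- The `S`-scheme lies over the open `U`. -/
def InU (U : S.Opens) (T : Over S) : Prop := ∀ x, T.hom x ∈ U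

lemma InU.mono {U V : S.Opens} (h : U ≤ V) {T : Over S} (hT : InU U T) : InU V T := fun x => h (hT x)

lemma inU_of_hom {U : S.Opens} {T T' : Over S} (g : T' ⟶ T) (hT : InU U T) : InU U T' := fun x => by
  rw [← Over.w g, Scheme.Hom.comp_apply]
  exact hT _

lemma inU_preimage (U : S.Opens) (T : Over S) : InU U (opOver T (T.hom ⁻¹ᵁ U)) := fun x => by
  show ((T.hom ⁻¹ᵁ U).ι ≫ T.hom) x ∈ U
  rw [Scheme.Hom.comp_apply]
  exact x.2

/-- A pullback square over a monomorphism. -/
lemma isPullback_of_mono {P X Y Z W : Scheme.{u}} {a : P ⟶ X} {b : P ⟶ Y} {f : X ⟶ Z} {g : Y ⟶ Z} (m : Z ⟶ W)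
    [Mono m] (w : a ≫ f = b ≫ g) (h : IsPullback a b (f ≫ m) (g ≫ m)) : IsPullback a b f g :=
  ⟨⟨w⟩, ⟨PullbackCone.IsLimit.mk _
    (fun s => h.lift s.fst s.snd (by rw [← Category.assoc, s.condition, Category.assoc]))
    (fun s => h.lift_fst _ _ _) (fun s => h.lift_snd _ _ _)
    (fun s m' h1 h2 => h.hom_ext (by rw [h.lift_fst]; exact h1) (by rw [h.lift_snd]; exact h2))⟩⟩

/-- Morphisms to an `S`-scheme are determined on an open cover. -/
lemma hom_ext_opens {T M : Over S} {κ : Type u} (U : κ → T.left.Opens) (hU : ∀ x, ∃ k, x ∈ U k)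
    {a b : T ⟶ M} (h : ∀ k, opIncl T (U k) ≫ a = opIncl T (U k) ≫ b) : a = b := by
  refine Over.OverMorphism.ext (Scheme.Cover.hom_ext (T.left.openCoverOfIsOpenCover U ?_) _ _ fun k => ?_)
  · rw [TopologicalSpace.IsOpenCover, eq_top_iff]
    exact fun x _ => TopologicalSpace.Opens.mem_iSup.mpr (hU x)
  · exact congrArg CommaMorphism.left (h k)

/-- Morphisms to an `S`-scheme glue. -/
lemma exists_glue_hom {T M : Over S} {κ : Type u} (U : κ → T.left.Opens) (hU : ∀ x, ∃ k, x ∈ U k)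
    (v : ∀ k, opOver T (U k) ⟶ M)
    (h : ∀ k l, opMap T (inf_le_left : U k ⊓ U l ≤ U k) ≫ v k = opMap T (inf_le_right : U k ⊓ U l ≤ U l) ≫ v l) :
    ∃ w : T ⟶ M, ∀ k, opIncl T (U k) ≫ w = v k := by
  have hcov : TopologicalSpace.IsOpenCover U := by
    rw [TopologicalSpace.IsOpenCover, eq_top_iff]
    exact fun x _ => TopologicalSpace.Opens.mem_iSup.mpr (hU x)
  let 𝒰 := T.left.openCoverOfIsOpenCover U hcov
  have hg : ∀ k l : 𝒰.I₀, pullback.fst (𝒰.f k) (𝒰.f l) ≫ (v k).left = pullback.snd _ _ ≫ (v l).left := by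
    intro k l
    have hr : Set.range (pullback.fst (U k).ι (U l).ι ≫ (U k).ι) ⊆ Set.range (U k ⊓ U l).ι := by
      rintro _ ⟨x, rfl⟩
      rw [Scheme.Opens.range_ι]
      refine ⟨?_, ?_⟩
      · rw [Scheme.Hom.comp_apply]; exact (pullback.fst (U k).ι (U l).ι x).2
      · rw [pullback.condition, Scheme.Hom.comp_apply]; exact (pullback.snd (U k).ι (U l).ι x).2
    let z := IsOpenImmersion.lift (U k ⊓ U l).ι _ hr
    have h1 : z ≫ T.left.homOfLE inf_le_left = pullback.fst (U k).ι (U l).ι := by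
      rw [← cancel_mono (U k).ι, Category.assoc, Scheme.homOfLE_ι, IsOpenImmersion.lift_fac]
    have h2 : z ≫ T.left.homOfLE inf_le_right = pullback.snd (U k).ι (U l).ι := by
      rw [← cancel_mono (U l).ι, Category.assoc, Scheme.homOfLE_ι, IsOpenImmersion.lift_fac, pullback.condition]
    show pullback.fst (U k).ι (U l).ι ≫ (v k).left = pullback.snd (U k).ι (U l).ι ≫ (v l).left
    rw [← h1, ← h2, Category.assoc, Category.assoc]
    exact congrArg (z ≫ ·) (congrArg CommaMorphism.left (h k l))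
  refine ⟨Over.homMk (Scheme.Cover.glueMorphisms 𝒰 (fun k => (v k).left) hg) ?_, fun k => ?_⟩
  · refine Scheme.Cover.hom_ext 𝒰 _ _ fun k => ?_
    rw [Scheme.Cover.ι_glueMorphisms_assoc]
    exact Over.w (v k)
  · exact Over.OverMorphism.ext (Scheme.Cover.ι_glueMorphisms 𝒰 _ hg k)

variable (F : (Over S)ᵒᵖ ⥤ Type u)

/-- Restriction of a section of `F`. -/
abbrev res {T T' : Over S} (g : T' ⟶ T) (φ : F.obj (op T)) : F.obj (op T') := F.map g.op φ

lemma res_comp {T T' T'' : Over S} (g : T' ⟶ T) (g' : T'' ⟶ T') (φ : F.obj (op T)) :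
    res F g' (res F g φ) = res F (g' ≫ g) φ := by
  simp [res]

lemma res_id {T : Over S} (φ : F.obj (op T)) : res F (𝟙 T) φ = φ := by simp [res]

/-- Zariski descent. -/
structure IsLocal : Prop where
  ext : ∀ (T : Over S) {κ : Type u} (U : κ → T.left.Opens), (∀ x, ∃ k, x ∈ U k) → ∀ φ ψ : F.obj (op T),
    (∀ k, res F (opIncl T (U k)) φ = res F (opIncl T (U k)) ψ) → φ = ψ
  glue : ∀ (T : Over S) {κ : Type u} (U : κ → T.left.Opens), (∀ x, ∃ k, x ∈ U k) →
    ∀ φ : ∀ k, F.obj (op (opOver T (U k))),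
    (∀ k l, res F (opMap T (inf_le_left : U k ⊓ U l ≤ U k)) (φ k) =
      res F (opMap T (inf_le_right : U k ⊓ U l ≤ U l)) (φ l)) →
    ∃ ψ, ∀ k, res F (opIncl T (U k)) ψ = φ k

/-- `(M, ξ)` represents `F` on schemes over `U`. -/
def IsUniv (U : S.Opens) (M : Over S) (ξ : F.obj (op M)) : Prop :=
  InU U M ∧ ∀ T : Over S, InU U T → ∀ φ : F.obj (op T), ∃! v : T ⟶ M, res F v ξ = φ

/-- `(M, ξ)` represents `F` on affine schemes over `U`. -/
def IsUnivAffine (U : S.Opens) (M : Over S) (ξ : F.obj (op M)) : Prop :=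
  InU U M ∧ ∀ T : Over S, IsAffine T.left → InU U T → ∀ φ : F.obj (op T), ∃! v : T ⟶ M, res F v ξ = φ

variable {F}

lemma IsUniv.unique {U : S.Opens} {M : Over S} {ξ : F.obj (op M)} (h : IsUniv F U M ξ) {T : Over S}
    (hT : InU U T) {a b : T ⟶ M} (he : res F a ξ = res F b ξ) : a = b :=
  (h.2 T hT _).unique he rfl

/-- Affine test schemes suffice. -/
theorem IsUnivAffine.isUniv (hF : IsLocal F) {U : S.Opens} {M : Over S} {ξ : F.obj (op M)}
    (h : IsUnivAffine F U M ξ) : IsUniv F U M ξ := by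
  have inj : ∀ (T : Over S), InU U T → ∀ a b : T ⟶ M, res F a ξ = res F b ξ → a = b := by
    intro T hT a b he
    refine hom_ext_opens (fun W : T.left.affineOpens => W.1) (fun x => ?_) fun W => ?_
    · obtain ⟨W, hW, hxW, -⟩ := exists_isAffineOpen_mem_and_subset (show x ∈ (⊤ : T.left.Opens) from trivial)
      exact ⟨⟨W, hW⟩, hxW⟩
    · refine (h.2 (opOver T W.1) W.2 (inU_of_hom (opIncl T W.1) hT) _).unique ?_ rfl
      rw [← res_comp, ← res_comp, he]
  refine ⟨h.1, fun T hT φ => ?_⟩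
  choose v hv hu using fun W : T.left.affineOpens =>
    h.2 (opOver T W.1) W.2 (inU_of_hom (opIncl T W.1) hT) (res F (opIncl T W.1) φ)
  obtain ⟨w, hw⟩ := exists_glue_hom (fun W : T.left.affineOpens => W.1) (fun x => by
    obtain ⟨W, hW, hxW, -⟩ := exists_isAffineOpen_mem_and_subset (show x ∈ (⊤ : T.left.Opens) from trivial)
    exact ⟨⟨W, hW⟩, hxW⟩) v (fun W W' => inj _ (inU_of_hom (opIncl T _) hT) _ _ (by
      rw [← res_comp, ← res_comp, hv W, hv W', res_comp, res_comp, opMap_incl, opMap_incl]))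
  refine ⟨w, ?_, fun w' hw' => inj T hT _ _ ?_⟩
  · refine hF.ext T (fun W : T.left.affineOpens => W.1) (fun x => ?_) _ _ fun W => ?_
    · obtain ⟨W, hW, hxW, -⟩ := exists_isAffineOpen_mem_and_subset (show x ∈ (⊤ : T.left.Opens) from trivial)
      exact ⟨⟨W, hW⟩, hxW⟩
    · rw [res_comp, hw W, hv W]
  · rw [show res F w' ξ = φ from hw']
    refine hF.ext T (fun W : T.left.affineOpens => W.1) (fun x => ?_) _ _ fun W => ?_
    · obtain ⟨W, hW, hxW, -⟩ := exists_isAffineOpen_mem_and_subset (show x ∈ (⊤ : T.left.Opens) from trivial)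
      exact ⟨⟨W, hW⟩, hxW⟩
    · rw [res_comp, hw W, hv W]

/-- Restriction of a representing object to a smaller open. -/
theorem IsUniv.restrict {U V : S.Opens} (hle : U ≤ V) {M : Over S} {ξ : F.obj (op M)} (h : IsUniv F V M ξ) :
    IsUniv F U (opOver M (M.hom ⁻¹ᵁ U)) (res F (opIncl M (M.hom ⁻¹ᵁ U)) ξ) := by
  refine ⟨inU_preimage U M, fun T hT φ => ?_⟩
  obtain ⟨v, hv, -⟩ := h.2 T (hT.mono hle) φ
  have hr : Set.range v.left ⊆ Set.range (M.hom ⁻¹ᵁ U).ι := by
    rintro _ ⟨x, rfl⟩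
    rw [Scheme.Opens.range_ι]
    show M.hom (v.left x) ∈ U
    rw [← Scheme.Hom.comp_apply, Over.w v]
    exact hT x
  let v' : T ⟶ opOver M (M.hom ⁻¹ᵁ U) := Over.homMk (IsOpenImmersion.lift (M.hom ⁻¹ᵁ U).ι v.left hr)
    (by
      show IsOpenImmersion.lift _ v.left hr ≫ (M.hom ⁻¹ᵁ U).ι ≫ M.hom = _
      rw [IsOpenImmersion.lift_fac_assoc]
      exact Over.w v)
  have hv' : v' ≫ opIncl M (M.hom ⁻¹ᵁ U) = v := Over.OverMorphism.ext (IsOpenImmersion.lift_fac _ _ _)
  refine ⟨v', (by show res F v' _ = φ; rw [res_comp, hv', hv]), fun w hw => ?_⟩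
  have hw' : w ≫ opIncl M (M.hom ⁻¹ᵁ U) = v' ≫ opIncl M (M.hom ⁻¹ᵁ U) := by
    rw [hv']
    exact h.unique (hT.mono hle) (by rw [hv, ← res_comp]; exact hw)
  apply Over.OverMorphism.ext
  rw [← cancel_mono (M.hom ⁻¹ᵁ U).ι]
  exact congrArg CommaMorphism.left hw'

/-- A representing object over a smaller open is a restriction of one over a larger open. -/
theorem IsUniv.isPullback {U V : S.Opens} (hle : U ≤ V) {M M' : Over S} {ξ : F.obj (op M)} {ξ' : F.obj (op M')}
    (h : IsUniv F V M ξ) (h' : IsUniv F U M' ξ') (c : M' ⟶ M) (hc : res F c ξ = ξ')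
    (g : M'.left ⟶ U) (hg : g ≫ U.ι = M'.hom) : IsPullback g c.left U.ι M.hom := by
  have hr := h.restrict hle
  obtain ⟨a, ha, -⟩ := hr.2 M' h'.1 ξ'
  obtain ⟨b, hb, -⟩ := h'.2 _ hr.1 (res F (opIncl M (M.hom ⁻¹ᵁ U)) ξ)
  have hab : a ≫ b = 𝟙 M' := h'.unique h'.1 (by rw [← res_comp, hb, ha, res_id])
  have hba : b ≫ a = 𝟙 _ := hr.unique hr.1 (by rw [← res_comp, ha, hb, res_id])
  have hac : a ≫ opIncl M (M.hom ⁻¹ᵁ U) = c :=
    h.unique (h'.1.mono hle) (by rw [← res_comp, ha, hc])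
  have hac' : a.left ≫ (M.hom ⁻¹ᵁ U).ι = c.left := congrArg CommaMorphism.left hac
  haveI : IsIso a.left := ⟨b.left, congrArg CommaMorphism.left hab, congrArg CommaMorphism.left hba⟩
  refine IsPullback.of_iso (isPullback_morphismRestrict M.hom U) (asIso a.left).symm (Iso.refl _) (Iso.refl _)
    (Iso.refl _) ?_ ?_ (by simp) (by simp)
  · show (M.hom ∣_ U) ≫ 𝟙 _ = inv a.left ≫ g
    rw [Category.comp_id, IsIso.eq_inv_comp, ← cancel_mono U.ι, Category.assoc, morphismRestrict_ι, hg,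
      ← Category.assoc, hac']
    exact Over.w c
  · show (M.hom ⁻¹ᵁ U).ι ≫ 𝟙 _ = inv a.left ≫ c.left
    rw [Category.comp_id, IsIso.eq_inv_comp, hac']

/-- Representability is local on the base. -/
theorem exists_univ (hF : IsLocal F)
    (chart : ∀ U : S.affineOpens, ∃ (M : Over S) (ξ : F.obj (op M)), IsUniv F U.1 M ξ) :
    ∃ (M : Over S) (ξ : F.obj (op M)), ∀ (T : Over S) (φ : F.obj (op T)), ∃! v : T ⟶ M, res F v ξ = φ := by
  choose M ξ h using chart
  have hc : ∀ {U V : S.affineOpens}, U ≤ V → ∃ c : M U ⟶ M V, res F c (ξ V) = ξ U := fun {U V} hle =>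
    ((h V).2 (M U) ((h U).1.mono hle) (ξ U)).exists
  choose c hc using @hc
  have hc_id : ∀ U, c (le_refl U) = 𝟙 (M U) := fun U => (h U).unique (h U).1 (by rw [hc, res_id])
  have hc_comp : ∀ {U V W : S.affineOpens} (a : U ≤ V) (b : V ≤ W), c (a.trans b) = c a ≫ c b :=
    fun {U V W} a b => (h W).unique ((h U).1.mono (a.trans b)) (by rw [hc, ← res_comp, hc, hc])
  have hg : ∀ U : S.affineOpens, Set.range (M U).hom ⊆ Set.range U.1.ι := fun U => by
    rintro _ ⟨x, rfl⟩
    rw [Scheme.Opens.range_ι]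
    exact (h U).1 x
  let g : ∀ U : S.affineOpens, (M U).left ⟶ U.1 := fun U => IsOpenImmersion.lift U.1.ι (M U).hom (hg U)
  have hgι : ∀ U, g U ≫ U.1.ι = (M U).hom := fun U => IsOpenImmersion.lift_fac _ _ _
  let Fn : S.directedAffineCover.I₀ ⥤ Scheme.{u} :=
    { obj := fun U => (M U).left
      map := fun {U V} f => (c (leOfHom f)).left
      map_id := fun U => congrArg CommaMorphism.left (hc_id U)
      map_comp := fun f f' => congrArg CommaMorphism.left (hc_comp (leOfHom f) (leOfHom f')) }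
  have hnat : ∀ {U V : S.affineOpens} (hle : U ≤ V),
      (c hle).left ≫ g V = g U ≫ S.homOfLE hle := fun {U V} hle => by
    rw [← cancel_mono V.1.ι, Category.assoc, Category.assoc, hgι, Scheme.homOfLE_ι, hgι]
    exact Over.w (c hle)
  let ν : Fn ⟶ S.directedAffineCover.functorOfLocallyDirected :=
    { app := fun U => g U
      naturality := fun U V f => hnat (leOfHom f) }
  have hequi : ν.Equifibered := by
    intro U V f
    have P := IsUniv.isPullback (leOfHom f : U.1 ≤ V.1) (h V) (h U) (c (leOfHom f)) (hc _) (g U) (hgι U)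
    refine isPullback_of_mono V.1.ι (hnat (leOfHom f)) ?_
    rw [hgι]
    show IsPullback (c (leOfHom f)).left (g U) (M V).hom (S.homOfLE (leOfHom f : U.1 ≤ V.1) ≫ V.1.ι)
    rw [Scheme.homOfLE_ι]
    exact P.flip
  let d : Scheme.Cover.RelativeGluingData S.directedAffineCover := ⟨Fn, ν, hequi⟩
  haveI : Quiver.IsThin S.directedAffineCover.I₀ := fun a b => ⟨fun f f' => Subsingleton.elim f f'⟩
  haveI : (d.functor ⋙ Scheme.forget).IsLocallyDirected :=
    Scheme.Cover.RelativeGluingData.instIsLocallyDirectedI₀CompFunctorForgetOfIsThin ..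
  haveI hopm : ∀ {i j : S.directedAffineCover.I₀} (f : i ⟶ j), IsOpenImmersion (d.functor.map f) := fun {i j} f => by
    apply MorphismProperty.of_isPullback (d.equifibered f).flip
    infer_instance
  haveI : HasColimit d.functor := Scheme.IsLocallyDirected.instHasColimit d.functor
  let G : Over S := Over.mk d.toBase
  let ι : ∀ U : S.affineOpens, M U ⟶ G := fun U => Over.homMk (colimit.ι d.functor U) (by
    show colimit.ι d.functor U ≫ d.toBase = (M U).hom
    rw [d.ι_toBase]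
    exact hgι U)
  have hιc : ∀ {U V : S.affineOpens} (hle : U ≤ V), c hle ≫ ι V = ι U := fun {U V} hle =>
    Over.OverMorphism.ext (colimit.w d.functor (homOfLE hle))
  have hrange : ∀ U : S.affineOpens, (G.hom ⁻¹ᵁ U.1 : Set G.left) = Set.range (colimit.ι d.functor U) := fun U => by
    rw [← d.preimage_toBase_eq_range_ι U]
    show d.toBase ⁻¹' (U.1 : Set S) = d.toBase ⁻¹' Set.range U.1.ι
    rw [Scheme.Opens.range_ι]
  haveI hιopen : ∀ U : S.affineOpens, IsOpenImmersion (colimit.ι d.functor U) := fun U =>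
    inferInstanceAs (IsOpenImmersion (d.cover.f U))
  have hlift : ∀ (T : Over S) (U : S.affineOpens) (a : T ⟶ G), InU U.1 T → ∃ b : T ⟶ M U, b ≫ ι U = a := by
    intro T U a hT
    have hr : Set.range a.left ⊆ Set.range (colimit.ι d.functor U) := by
      rintro _ ⟨x, rfl⟩
      rw [← hrange U]
      show G.hom (a.left x) ∈ U.1
      rw [← Scheme.Hom.comp_apply, Over.w a]
      exact hT x
    refine ⟨Over.homMk (IsOpenImmersion.lift (colimit.ι d.functor U) a.left hr) ?_,
      Over.OverMorphism.ext (IsOpenImmersion.lift_fac _ _ _)⟩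
    rw [← Over.w (ι U)]
    show IsOpenImmersion.lift _ a.left hr ≫ colimit.ι d.functor U ≫ G.hom = _
    rw [IsOpenImmersion.lift_fac_assoc]
    exact Over.w a
  have hmono : ∀ (U : S.affineOpens) {T : Over S} {a b : T ⟶ M U}, a ≫ ι U = b ≫ ι U → a = b := by
    intro U T a b e
    refine Over.OverMorphism.ext ?_
    rw [← cancel_mono (colimit.ι d.functor U)]
    exact congrArg CommaMorphism.left e
  have hcov : ∀ x : S, ∃ U : S.affineOpens, x ∈ U.1 := fun x => by
    obtain ⟨U, hU, hxU, -⟩ := exists_isAffineOpen_mem_and_subset (show x ∈ (⊤ : S.Opens) from trivial)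
    exact ⟨⟨U, hU⟩, hxU⟩
  choose j hj using fun U : S.affineOpens =>
    hlift (opOver G (G.hom ⁻¹ᵁ U.1)) U (opIncl G _) (inU_preimage U.1 G)
  obtain ⟨Ξ, hΞ⟩ := hF.glue G (fun U : S.affineOpens => G.hom ⁻¹ᵁ U.1) (fun x => hcov _)
    (fun U => res F (j U) (ξ U)) (fun U V => by
      let W₀ := G.hom ⁻¹ᵁ U.1 ⊓ G.hom ⁻¹ᵁ V.1
      refine hF.ext _ (fun W : {W : S.affineOpens // W ≤ U ∧ W ≤ V} => (opOver G W₀).hom ⁻¹ᵁ W.1.1)
        (fun x => ?_) _ _ fun W => ?_
      · obtain ⟨W, hW, hxW, hle⟩ := exists_isAffineOpen_mem_and_subset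
          (show (opOver G W₀).hom x ∈ U.1 ⊓ V.1 from by
            show (W₀.ι ≫ G.hom) x ∈ U.1 ⊓ V.1
            rw [Scheme.Hom.comp_apply]
            exact x.2)
        exact ⟨⟨⟨W, hW⟩, fun y hy => (hle hy).1, fun y hy => (hle hy).2⟩, hxW⟩
      · let T := opOver (opOver G W₀) ((opOver G W₀).hom ⁻¹ᵁ W.1.1)
        obtain ⟨b, hb⟩ := hlift T W.1 (opIncl _ _ ≫ opIncl G W₀) (inU_preimage W.1.1 _)
        have key : ∀ (X : S.affineOpens) (le : W.1 ≤ X) (w : W₀ ≤ G.hom ⁻¹ᵁ X.1),
            res F (opIncl _ ((opOver G W₀).hom ⁻¹ᵁ W.1.1)) (res F (opMap G w) (res F (j X) (ξ X))) =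
              res F b (ξ W.1) := by
          intro X le w
          rw [res_comp, res_comp, ← hc le, res_comp]
          congr 1
          apply hmono X
          rw [Category.assoc, Category.assoc, hj, opMap_incl, Category.assoc, hιc, hb]
        rw [key U W.2.1 inf_le_left, key V W.2.2 inf_le_right])
  have hres : ∀ U : S.affineOpens, res F (ι U) Ξ = ξ U := by
    intro U
    obtain ⟨b, hb⟩ : ∃ b : M U ⟶ opOver G (G.hom ⁻¹ᵁ U.1), b ≫ opIncl G _ = ι U := by
      have hr : Set.range (ι U).left ⊆ Set.range (G.hom ⁻¹ᵁ U.1).ι := by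
        rw [Scheme.Opens.range_ι, hrange]
        exact subset_rfl
      refine ⟨Over.homMk (IsOpenImmersion.lift _ (ι U).left hr) ?_, Over.OverMorphism.ext (IsOpenImmersion.lift_fac _ _ _)⟩
      show IsOpenImmersion.lift _ (ι U).left hr ≫ (G.hom ⁻¹ᵁ U.1).ι ≫ G.hom = _
      rw [IsOpenImmersion.lift_fac_assoc]
      exact Over.w (ι U)
    have hbj : b ≫ j U = 𝟙 _ := hmono U (by rw [Category.assoc, hj, hb, Category.id_comp])
    rw [← hb, ← res_comp, hΞ U, res_comp, hbj, res_id]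
  have inj : ∀ (T : Over S) (a b : T ⟶ G), res F a Ξ = res F b Ξ → a = b := by
    intro T a b e
    refine hom_ext_opens (fun U : S.affineOpens => T.hom ⁻¹ᵁ U.1) (fun x => hcov _) fun U => ?_
    obtain ⟨a', ha⟩ := hlift _ U (opIncl T (T.hom ⁻¹ᵁ U.1) ≫ a) (inU_preimage U.1 T)
    obtain ⟨b', hb⟩ := hlift _ U (opIncl T (T.hom ⁻¹ᵁ U.1) ≫ b) (inU_preimage U.1 T)
    rw [← ha, ← hb]
    congr 1
    refine (h U).unique (inU_preimage U.1 T) ?_
    rw [← hres U, res_comp, res_comp, ha, hb, ← res_comp, e, res_comp]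
  refine ⟨G, Ξ, fun T φ => ?_⟩
  choose v hv using fun U : S.affineOpens =>
    ((h U).2 _ (inU_preimage U.1 T) (res F (opIncl T (T.hom ⁻¹ᵁ U.1)) φ)).exists
  obtain ⟨w, hw⟩ := exists_glue_hom (fun U : S.affineOpens => T.hom ⁻¹ᵁ U.1) (fun x => hcov _)
    (fun U => v U ≫ ι U) (fun U V => inj _ _ _ (by
      rw [← res_comp, ← res_comp, ← res_comp, ← res_comp, hres, hres, hv U, hv V, res_comp, res_comp,
        opMap_incl, opMap_incl]))
  have hwφ : res F w Ξ = φ :=
    hF.ext T (fun U : S.affineOpens => T.hom ⁻¹ᵁ U.1) (fun x => hcov _) _ _ fun U => by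
      rw [res_comp, hw U, ← res_comp, hres, hv U]
  exact ⟨w, hwφ, fun w' hw' => inj T _ _ (hw'.trans hwφ.symm)⟩

/-- A property local on the target holds for the universal object as soon as it holds for the charts. -/
theorem prop_of_charts (P : MorphismProperty Scheme.{u}) [IsZariskiLocalAtTarget P] {M : Over S}
    {ξ : F.obj (op M)} (hM : ∀ (T : Over S) (φ : F.obj (op T)), ∃! v : T ⟶ M, res F v ξ = φ)
    (chart : ∀ U : S.affineOpens, ∃ (M' : Over S) (ξ' : F.obj (op M')) (g : M'.left ⟶ U.1),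
      IsUniv F U.1 M' ξ' ∧ g ≫ U.1.ι = M'.hom ∧ P g) : P M.hom := by
  rw [IsZariskiLocalAtTarget.iff_of_iSup_eq_top (P := P) (fun U : S.affineOpens => U.1) (iSup_affineOpens_eq_top S)]
  intro U
  obtain ⟨M', ξ', g, h', hg, hP⟩ := chart U
  have htop : IsUniv F ⊤ M ξ := ⟨fun _ => trivial, fun T _ φ => hM T φ⟩
  obtain ⟨v, hv, -⟩ := hM M' ξ'
  have hp := IsUniv.isPullback (le_top : U.1 ≤ ⊤) htop h' v hv g hg
  rw [← (isPullback_morphismRestrict M.hom U.1).isoIsPullback_hom_fst _ _ hp]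
  exact (MorphismProperty.cancel_left_of_respectsIso P _ g).mpr hP

end Groth.Agent.RepLocal
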